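import Cfsg.Agent.Lib.ExtPrim.Basic
import Cfsg.Agent.Lib.Spectrum.Basic

/-! Abelian normal subgroups of primitive groups and of the stabilizers of extremely primitive groups:
regular and self-centralizing, elementary abelian, contain the Fitting subgroup. -/

namespace Cfsg.Agent.ExtPrim

open MulAction

section Primitive

variable {H : Type*} [Group H] {X : Type*} [MulAction H X] [FaithfulSMul H X]

theorem abelian_normal_transitive [IsPreprimitive H X] (A : Subgroup H) [A.Normal] (hA : A ≠ ⊥) :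
    IsPretransitive A X := by
  apply IsQuasiPreprimitive.isPretransitive_of_normal
  intro hu
  apply hA
  rw [Subgroup.eq_bot_iff_forall]
  intro a ha
  refine FaithfulSMul.eq_of_smul_eq_smul (α := X) fun x => ?_
  rw [one_smul]
  have hx : x ∈ fixedPoints A X := by rw [hu]; trivial
  exact hx ⟨a, ha⟩

/-- An abelian normal subgroup of a faithful primitive group acts semiregularly. -/
theorem abelian_normal_semiregular [IsPreprimitive H X] (A : Subgroup H) [A.Normal]
    (hc : ∀ a ∈ A, ∀ b ∈ A, a * b = b * a) (hA : A ≠ ⊥) {a : H} (ha : a ∈ A) {x : X} (hx : a • x = x) : a = 1 := by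
  have ht := abelian_normal_transitive (X := X) A hA
  refine FaithfulSMul.eq_of_smul_eq_smul (α := X) fun y => ?_
  obtain ⟨⟨b, hb⟩, hby⟩ := @exists_smul_eq A X _ ht x y
  rw [one_smul, ← (show b • x = y from hby), ← mul_smul, hc a ha b hb, mul_smul, hx]

/-- An abelian normal subgroup of a faithful primitive group is self-centralizing. -/
theorem abelian_normal_self_centralizing [IsPreprimitive H X] (x₀ : X) (A : Subgroup H) [A.Normal]
    (hA : A ≠ ⊥) {c : H} (hcA : ∀ a ∈ A, a * c = c * a)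
    (hc : ∀ a ∈ A, ∀ b ∈ A, a * b = b * a) : c ∈ A := by
  have ht := abelian_normal_transitive (X := X) A hA
  obtain ⟨⟨a, ha⟩, hax⟩ := @exists_smul_eq A X _ ht x₀ (c • x₀)
  have hfix : (a⁻¹ * c) • x₀ = x₀ := by
    rw [mul_smul, ← (show a • x₀ = c • x₀ from hax), inv_smul_smul]
  have : a⁻¹ * c = 1 := by
    refine FaithfulSMul.eq_of_smul_eq_smul (α := X) fun y => ?_
    obtain ⟨⟨b, hb⟩, hby⟩ := @exists_smul_eq A X _ ht x₀ y
    have hcomm : a⁻¹ * c * b = b * (a⁻¹ * c) := by
      rw [mul_assoc, ← hcA b hb, ← mul_assoc, hc _ (inv_mem ha) b hb, mul_assoc]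
    rw [one_smul, ← (show b • x₀ = y from hby), ← mul_smul, hcomm, mul_smul, hfix]
  rw [inv_mul_eq_one] at this
  exact this ▸ ha

theorem abelian_normal_le [IsPreprimitive H X] (x₀ : X) (A B : Subgroup H) [A.Normal] [B.Normal]
    (hcA : ∀ a ∈ A, ∀ b ∈ A, a * b = b * a) (hcB : ∀ a ∈ B, ∀ b ∈ B, a * b = b * a) (hA : A ≠ ⊥) (hB : B ≠ ⊥) :
    A ≤ B := by
  by_cases hI : A ⊓ B = ⊥
  · exfalso
    apply hB
    rw [← le_bot_iff, ← hI]
    intro b hb
    refine ⟨abelian_normal_self_centralizing x₀ A hA (fun a ha => ?_) hcA, hb⟩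
    exact Subgroup.commute_of_normal_of_disjoint A B inferInstance inferInstance (disjoint_iff.mpr hI) a b ha hb
  · intro a ha
    have h := abelian_normal_self_centralizing x₀ (A ⊓ B) hI (c := a)
      (fun i hi => hcA i hi.1 a ha) (fun i hi j hj => hcA i hi.1 j hj.1)
    exact h.2

/-- A nilpotent normal subgroup of a faithful primitive group lies in every nontrivial abelian normal subgroup. -/
theorem nilpotent_normal_le [IsPreprimitive H X] (x₀ : X) (A F : Subgroup H) [A.Normal] [F.Normal]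
    [Group.IsNilpotent F] (hcA : ∀ a ∈ A, ∀ b ∈ A, a * b = b * a) (hA : A ≠ ⊥) : F ≤ A := by
  rcases eq_or_ne F ⊥ with rfl | hF
  · exact bot_le
  let Z : Subgroup H := (Subgroup.center F).map F.subtype
  have hcomm : ∀ a ∈ Z, ∀ b ∈ F, a * b = b * a := by
    rintro _ ⟨⟨a, haF⟩, haZ, rfl⟩ b hb
    exact (congrArg Subtype.val (Subgroup.mem_center_iff.mp haZ ⟨b, hb⟩)).symm
  have hZF : Z ≤ F := Subgroup.map_subtype_le _
  have hZ : Z ≠ ⊥ := by
    rw [Ne, Subgroup.map_eq_bot_iff_of_injective _ F.subtype_injective]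
    haveI : Nontrivial F := F.nontrivial_iff_ne_bot.mpr hF
    exact Group.IsNilpotent.center_ne_bot _
  have hZc : ∀ a ∈ Z, ∀ b ∈ Z, a * b = b * a := fun a ha b hb => hcomm a ha b (hZF hb)
  haveI : Z.Normal := inferInstanceAs ((Subgroup.center F).map F.subtype).Normal
  have hAZ := abelian_normal_le x₀ A Z hcA hZc hA hZ
  intro f hf
  exact abelian_normal_self_centralizing x₀ A hA (fun a ha => hcomm a (hAZ ha) f hf) hcA

end Primitive

section Stabilizer

variable {G : Type*} [Group G] [Finite G] {Ω : Type*} [MulAction G Ω] [Finite Ω] [FaithfulSMul G Ω]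

/-- A stabilizer in an extremely primitive group acts faithfully on each nontrivial suborbit. -/
theorem faithfulSMul_suborbit (hprim : IsPreprimitive G Ω) (α ω : Ω) (hω : ω ≠ α) (hH : stabilizer G α ≠ ⊥)
    (hep : ∀ x : Ω, IsPreprimitive (stabilizer G α) (orbit (stabilizer G α) x)) :
    FaithfulSMul (stabilizer G α) (orbit (stabilizer G α) ω) := by
  refine ⟨fun {a b} hab => ?_⟩
  have h1 : ∀ x ∈ orbit (stabilizer G α) ω, ((b⁻¹ * a : stabilizer G α) : G) • x = x := by
    intro x hx
    have := congrArg Subtype.val (hab ⟨x, hx⟩)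
    show (b⁻¹ * a : stabilizer G α) • x = x
    rw [mul_smul]
    exact inv_smul_eq_iff.mpr this
  have h2 := faithful_on_suborbit hprim α ω hω hH hep (b⁻¹ * a).2 h1
  exact (inv_mul_eq_one.mp (Subtype.ext h2)).symm

/-- Semiregularity off the base point, self-centralization, and the size divisibility. -/
theorem abelian_normal_of_stabilizer [Fintype Ω] (hprim : IsPreprimitive G Ω) (α : Ω) (hH : stabilizer G α ≠ ⊥)
    (hep : ∀ x : Ω, IsPreprimitive (stabilizer G α) (orbit (stabilizer G α) x))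
    (A : Subgroup (stabilizer G α)) [A.Normal] (hc : ∀ a ∈ A, ∀ b ∈ A, a * b = b * a) (hA : A ≠ ⊥) :
    (∀ a ∈ A, ∀ x : Ω, x ≠ α → a • x = x → a = 1) ∧
      (∀ c, (∀ a ∈ A, a * c = c * a) → c ∈ A) ∧
      (∀ x : Ω, x ≠ α → Nat.card (orbit (stabilizer G α) x) = Nat.card A) ∧
      Nat.card A ∣ Fintype.card Ω - 1 := by
  classical
  have hex : ∃ x : Ω, x ≠ α := by
    by_contra h
    simp only [not_exists, not_not] at h
    apply hH
    rw [Subgroup.eq_bot_iff_forall]
    exact fun g _ => FaithfulSMul.eq_of_smul_eq_smul (α := Ω) fun x => by rw [h (g • x), h ((1 : G) • x)]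
  have hsemi : ∀ a ∈ A, ∀ x : Ω, x ≠ α → a • x = x → a = 1 := by
    intro a ha x hx hax
    haveI := faithfulSMul_suborbit hprim α x hx hH hep
    haveI := hep x
    exact abelian_normal_semiregular A hc hA ha (x := (⟨x, mem_orbit_self x⟩ : orbit (stabilizer G α) x))
      (Subtype.ext hax)
  have horb : ∀ x : Ω, x ≠ α → Nat.card (orbit (stabilizer G α) x) = Nat.card A := by
    intro x hx
    haveI := faithfulSMul_suborbit hprim α x hx hH hep
    haveI := hep x
    have ht := abelian_normal_transitive (X := orbit (stabilizer G α) x) A hA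
    symm
    refine Nat.card_congr (Equiv.ofBijective (fun a : A => a • (⟨x, mem_orbit_self x⟩ : orbit (stabilizer G α) x))
      ⟨fun a b hab => ?_, fun y => @exists_smul_eq A (orbit (stabilizer G α) x) _ ht _ y⟩)
    have hba : (b⁻¹ * a : A) • (⟨x, mem_orbit_self x⟩ : orbit (stabilizer G α) x) = ⟨x, mem_orbit_self x⟩ := by
      rw [mul_smul]; exact inv_smul_eq_iff.mpr hab
    have := hsemi _ (b⁻¹ * a : A).2 x hx (congrArg Subtype.val hba)
    exact (inv_mul_eq_one.mp (Subtype.ext this)).symm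
  refine ⟨hsemi, ?_, horb, ?_⟩
  · intro c hcA
    obtain ⟨x, hx⟩ := hex
    haveI := faithfulSMul_suborbit hprim α x hx hH hep
    haveI := hep x
    exact abelian_normal_self_centralizing (⟨x, mem_orbit_self x⟩ : orbit (stabilizer G α) x) A hA hcA hc
  · -- the complement of `α` is a union of `H`-orbits, all of size `|A|`
    have e : Fintype.card Ω - 1 = Nat.card {x : Ω // x ≠ α} := by
      rw [Nat.card_eq_fintype_card, Fintype.card_subtype_compl, Fintype.card_subtype_eq]
    let f : {x : Ω // x ≠ α} → Set Ω := fun x => orbit (stabilizer G α) (x : Ω)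
    rw [e, Nat.card_congr (Equiv.sigmaFiberEquiv (Set.rangeFactorization f)).symm, Nat.card_sigma]
    refine Finset.dvd_sum fun s _ => ?_
    obtain ⟨x, rfl⟩ := Set.rangeFactorization_surjective s
    rw [← horb x x.2]
    refine dvd_of_eq (Nat.card_congr ?_).symm
    exact
      { toFun := fun y => ⟨y.1, by
          have : f y.1 = f x := congrArg Subtype.val y.2
          show (y.1 : Ω) ∈ f x
          rw [← this]; exact mem_orbit_self _⟩
        invFun := fun y => ⟨⟨y.1, fun h => x.2 (by
            obtain ⟨u, hu⟩ := mem_orbit_symm.mp y.2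
            have : u • (y.1 : Ω) = x := hu
            rw [h] at this
            rw [← this]; exact u.2)⟩, Subtype.ext (orbit_eq_iff.mpr y.2)⟩
        left_inv := fun _ => rfl
        right_inv := fun _ => rfl }

/-- An abelian normal subgroup of the stabilizer is elementary abelian of prime-power order. -/
theorem abelian_normal_exponent [Fintype Ω] (hprim : IsPreprimitive G Ω) (α : Ω) (hH : stabilizer G α ≠ ⊥)
    (hep : ∀ x : Ω, IsPreprimitive (stabilizer G α) (orbit (stabilizer G α) x))
    (A : Subgroup (stabilizer G α)) [A.Normal] (hc : ∀ a ∈ A, ∀ b ∈ A, a * b = b * a) (hA : A ≠ ⊥) :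
    ∃ p e : ℕ, p.Prime ∧ 0 < e ∧ Nat.card A = p ^ e ∧ ∀ a ∈ A, a ^ p = 1 := by
  obtain ⟨p, hp, hpd⟩ := Nat.exists_prime_and_dvd (A.one_lt_card_iff_ne_bot.mpr hA).ne'
  haveI := Fact.mk hp
  let V : Subgroup (stabilizer G α) :=
    { carrier := {a | a ∈ A ∧ a ^ p = 1}
      one_mem' := ⟨one_mem _, one_pow _⟩
      mul_mem' := fun {x y} hx hy => ⟨mul_mem hx.1 hy.1, by
        rw [Commute.mul_pow (hc x hx.1 y hy.1), hx.2, hy.2, one_mul]⟩
      inv_mem' := fun {x} hx => ⟨inv_mem hx.1, by rw [inv_pow, hx.2, inv_one]⟩ }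
  haveI : V.Normal := ⟨fun x hx g => ⟨Subgroup.Normal.conj_mem inferInstance x hx.1 g, by
    rw [conj_pow, hx.2, mul_one, mul_inv_cancel]⟩⟩
  have hV : V ≠ ⊥ := by
    obtain ⟨x, hx⟩ := exists_prime_orderOf_dvd_card' (G := A) p hpd
    intro hbot
    have hmem : (x : stabilizer G α) ∈ V := ⟨x.2, by
      have h := pow_orderOf_eq_one x
      rw [hx] at h
      simpa using congrArg Subtype.val h⟩
    rw [hbot, Subgroup.mem_bot] at hmem
    rw [show x = 1 from Subtype.ext hmem, orderOf_one] at hx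
    exact hp.one_lt.ne hx
  have hsc := (abelian_normal_of_stabilizer hprim α hH hep V (fun a ha b hb => hc a ha.1 b hb.1) hV).2.1
  have hAV : ∀ a ∈ A, a ^ p = 1 := fun a ha => (hsc a fun b hb => hc b hb.1 a ha).2
  have hpg : IsPGroup p A := fun a => ⟨1, Subtype.ext (by simpa using hAV a a.2)⟩
  obtain ⟨e, he⟩ := IsPGroup.iff_card.mp hpg
  refine ⟨p, e, hp, ?_, he, hAV⟩
  rcases Nat.eq_zero_or_pos e with rfl | h
  · simp [he] at hpd; exact absurd hpd hp.ne_one
  · exact h

end Stabilizer

end Cfsg.Agent.ExtPrim
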