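import Cfsg.Agent.EqLemmas

/-! Extremely primitive permutation groups: a point stabilizer determines the point (`stabilizer_injective`),
normal subgroups of a point stabilizer are trivial or transitive on each suborbit (`fix_or_transitive`), and the
stabilizer is faithful on each nontrivial suborbit (`faithful_on_suborbit`). -/

namespace Cfsg.Agent.ExtPrim

open MulAction

variable {G : Type*} [Group G] {Ω : Type*} [MulAction G Ω]

theorem mem_stabilizer_conj (g : G) (a : Ω) {h : G} (hh : h ∈ stabilizer G a) :
    g * h * g⁻¹ ∈ stabilizer G (g • a) := by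
  rw [mem_stabilizer_iff, mul_smul, mul_smul, inv_smul_smul, mem_stabilizer_iff.mp hh]

/-- A normal subgroup of the transitive group fixing one point fixes all points. -/
theorem normal_le_stabilizer_eq_bot [FaithfulSMul G Ω] [IsPretransitive G Ω] (N : Subgroup G) [hN : N.Normal]
    (α : Ω) (h : N ≤ stabilizer G α) : N = ⊥ := by
  rw [Subgroup.eq_bot_iff_forall]
  intro n hn
  refine FaithfulSMul.eq_of_smul_eq_smul (α := Ω) fun x => ?_
  obtain ⟨g, rfl⟩ := exists_smul_eq G α x
  have hg := h (hN.conj_mem n hn g⁻¹)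
  rw [mem_stabilizer_iff, inv_inv, mul_smul, mul_smul, inv_smul_eq_iff] at hg
  rw [one_smul, hg]

/-- In a primitive group with nontrivial point stabilizers, the stabilizer determines the point. -/
theorem stabilizer_injective [FaithfulSMul G Ω] (hprim : IsPreprimitive G Ω) {α β : Ω}
    (hH : stabilizer G α ≠ ⊥) (h : stabilizer G α = stabilizer G β) : α = β := by
  rcases subsingleton_or_nontrivial Ω with hs | hn
  · exact Subsingleton.elim _ _
  haveI := hprim
  have hco : IsCoatom (stabilizer G α) := IsPreprimitive.isCoatom_stabilizer_of_isPreprimitive G α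
  obtain ⟨g, hg⟩ := exists_smul_eq G α β
  by_contra hne
  have hgn : g ∈ Subgroup.normalizer (stabilizer G α : Set G) := by
    rw [Subgroup.mem_normalizer_iff]
    intro x
    constructor
    · intro hx
      have := mem_stabilizer_conj g α hx
      rw [hg, ← h] at this
      exact this
    · intro hx
      rw [h] at hx
      have := mem_stabilizer_conj g⁻¹ β hx
      rw [inv_smul_eq_iff.mpr hg.symm] at this
      simpa [mul_assoc] using this
  have hlt : stabilizer G α < Subgroup.normalizer (stabilizer G α : Set G) := by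
    refine lt_of_le_of_ne Subgroup.le_normalizer fun he => ?_
    rw [← he, mem_stabilizer_iff, hg] at hgn
    exact hne hgn.symm
  have htop := hco.2 _ hlt
  haveI : (stabilizer G α).Normal := Subgroup.normalizer_eq_top_iff.mp htop
  exact hH (normal_le_stabilizer_eq_bot _ α le_rfl)

/-- A subgroup normalised by the stabilizer is pointwise trivial or transitive on each suborbit. -/
theorem fix_or_transitive (α x : Ω) (hep : IsPreprimitive (stabilizer G α) (orbit (stabilizer G α) x))
    (K : Subgroup G) (hK : K ≤ stabilizer G α) (hn : stabilizer G α ≤ Subgroup.normalizer (K : Set G)) :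
    (∀ k ∈ K, ∀ h ∈ stabilizer G α, k • h • x = h • x) ∨ (∀ h ∈ stabilizer G α, ∃ k ∈ K, k • x = h • x) := by
  haveI : (K.subgroupOf (stabilizer G α)).Normal := Subgroup.normal_subgroupOf_of_le_normalizer hn
  haveI := hep
  by_cases hfix : fixedPoints (K.subgroupOf (stabilizer G α)) (orbit (stabilizer G α) x) = Set.univ
  · left
    intro k hk h hh
    have hmem : (⟨h • x, ⟨⟨h, hh⟩, rfl⟩⟩ : orbit (stabilizer G α) x) ∈
        fixedPoints (K.subgroupOf (stabilizer G α)) (orbit (stabilizer G α) x) := by
      rw [hfix]; trivial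
    exact congrArg Subtype.val (hmem ⟨⟨k, hK hk⟩, hk⟩)
  · right
    intro h hh
    have ht : IsPretransitive (K.subgroupOf (stabilizer G α)) (orbit (stabilizer G α) x) :=
      IsQuasiPreprimitive.isPretransitive_of_normal hfix
    obtain ⟨⟨⟨k, _⟩, hk⟩, hkx⟩ := @exists_smul_eq (K.subgroupOf (stabilizer G α)) (orbit (stabilizer G α) x) _ ht
      ⟨x, mem_orbit_self x⟩ ⟨h • x, ⟨⟨h, hh⟩, rfl⟩⟩
    exact ⟨k, hk, congrArg Subtype.val hkx⟩

theorem card_orbit_mul_card_stab {M X : Type*} [Group M] [Finite M] [MulAction M X] (x : X) :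
    Nat.card (orbit M x) * Nat.card (stabilizer M x) = Nat.card M := by
  rw [Nat.card_congr (orbitEquivQuotientStabilizer M x), mul_comm]
  exact (stabilizer M x).card_mul_index

/-- Paired suborbits have the same size. -/
theorem card_orbit_paired [Finite G] [IsPretransitive G Ω] (α ω : Ω) :
    Nat.card (orbit (stabilizer G α) ω) = Nat.card (orbit (stabilizer G ω) α) := by
  obtain ⟨g, hg⟩ := exists_smul_eq G α ω
  have e : Nat.card (stabilizer G α) = Nat.card (stabilizer G ω) := by
    rw [← hg]; exact Nat.card_congr (stabilizerEquivStabilizer rfl).toEquiv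
  have e2 : Nat.card (stabilizer (stabilizer G α) ω) = Nat.card (stabilizer (stabilizer G ω) α) :=
    Nat.card_congr
      { toFun := fun k => ⟨⟨(k.1 : G), k.2⟩, k.1.2⟩
        invFun := fun k => ⟨⟨(k.1 : G), k.2⟩, k.1.2⟩
        left_inv := fun _ => rfl
        right_inv := fun _ => rfl }
  have h1 := card_orbit_mul_card_stab (M := stabilizer G α) ω
  rw [e, ← card_orbit_mul_card_stab (M := stabilizer G ω) α, e2] at h1
  exact Nat.eq_of_mul_eq_mul_right Nat.card_pos h1

/-- A stabilizer of an extremely primitive non-regular group is faithful on each nontrivial suborbit. -/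
theorem faithful_on_suborbit [Finite G] [Finite Ω] [FaithfulSMul G Ω] (hprim : IsPreprimitive G Ω)
    (α ω : Ω) (hω : ω ≠ α) (hH : stabilizer G α ≠ ⊥)
    (hep : ∀ x : Ω, IsPreprimitive (stabilizer G α) (orbit (stabilizer G α) x))
    {k : G} (hk : k ∈ stabilizer G α) (hfix : ∀ x ∈ orbit (stabilizer G α) ω, k • x = x) : k = 1 := by
  haveI : Nontrivial Ω := ⟨⟨ω, α, hω⟩⟩
  haveI := hprim
  have hco : IsCoatom (stabilizer G α) := IsPreprimitive.isCoatom_stabilizer_of_isPreprimitive G α
  let K : Subgroup G :=
    { carrier := {k | k ∈ stabilizer G α ∧ ∀ h ∈ stabilizer G α, k • h • ω = h • ω}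
      one_mem' := ⟨one_mem _, fun h _ => one_smul _ _⟩
      mul_mem' := fun {a b} ha hb => ⟨mul_mem ha.1 hb.1, fun h hh => by rw [mul_smul, hb.2 h hh, ha.2 h hh]⟩
      inv_mem' := fun {a} ha => ⟨inv_mem ha.1, fun h hh => by rw [inv_smul_eq_iff, ha.2 h hh]⟩ }
  suffices hK : K = ⊥ by
    have : k ∈ K := ⟨hk, fun h hh => hfix _ ⟨⟨h, hh⟩, rfl⟩⟩
    rwa [hK, Subgroup.mem_bot] at this
  have hKH : K ≤ stabilizer G α := fun a ha => ha.1
  have hHK : ∀ h ∈ stabilizer G α, ∀ a ∈ K, h * a * h⁻¹ ∈ K := by
    intro h hh a ha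
    refine ⟨mul_mem (mul_mem hh ha.1) (inv_mem hh), fun h' hh' => ?_⟩
    have := ha.2 (h⁻¹ * h') (mul_mem (inv_mem hh) hh')
    rw [mul_smul h⁻¹ h'] at this
    rw [mul_smul, mul_smul, this, smul_inv_smul]
  have hHn : stabilizer G α ≤ Subgroup.normalizer (K : Set G) := by
    intro h hh
    rw [Subgroup.mem_normalizer_iff]
    intro a
    refine ⟨hHK h hh a, fun ha => ?_⟩
    simpa [mul_assoc] using hHK h⁻¹ (inv_mem hh) _ ha
  obtain ⟨g, hg⟩ := exists_smul_eq G α ω
  -- the out-set of a point `b` is the set of `g • ω` with `g • α = b`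
  let R : Ω → Ω → Prop := fun a b => ∃ g : G, g • α = a ∧ g • ω = b
  have hR : ∀ (g : G) (a b : Ω), R a b → R (g • a) (g • b) := by
    rintro g a b ⟨t, rfl, rfl⟩
    exact ⟨g * t, mul_smul _ _ _, mul_smul _ _ _⟩
  -- K fixes the out-set of ω pointwise
  have key : ∀ x, R ω x → ∀ a ∈ K, a • x = x := by
    intro x hx a ha
    rcases fix_or_transitive α x (hep x) K hKH hHn with hf | htr
    · simpa using hf a ha 1 (one_mem _)
    by_contra hmoved
    have h1 : ∀ h ∈ stabilizer G α, R ω (h • x) := by
      intro h hh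
      obtain ⟨c, hc, hcx⟩ := htr h hh
      have := hR c ω x hx
      have hcw : c • ω = ω := by simpa using hc.2 1 (one_mem _)
      rwa [hcw, hcx] at this
    have hsub : orbit (stabilizer G α) ω ⊆ {b | R b x} := by
      rintro _ ⟨⟨h, hh⟩, rfl⟩
      have := hR h ω (h⁻¹ • x) (h1 h⁻¹ (inv_mem hh))
      rw [smul_inv_smul] at this
      exact this
    obtain ⟨d, hd⟩ := exists_smul_eq G ω x
    have hcard : Set.ncard {b | R b x} ≤ Set.ncard (orbit (stabilizer G α) ω) := by
      have himg : {b | R b x} ⊆ (fun y => d • y) '' (orbit (stabilizer G ω) α) := by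
        rintro b ⟨t, htα, htω⟩
        refine ⟨d⁻¹ • b, ⟨⟨d⁻¹ * t, ?_⟩, ?_⟩, smul_inv_smul d b⟩
        · rw [mem_stabilizer_iff, mul_smul, htω, inv_smul_eq_iff, hd]
        · show (d⁻¹ * t) • α = d⁻¹ • b
          rw [mul_smul, htα]
      refine (Set.ncard_le_ncard himg).trans ((Set.ncard_image_le).trans_eq ?_)
      rw [← Nat.card_coe_set_eq, ← Nat.card_coe_set_eq, card_orbit_paired]
    have heq : orbit (stabilizer G α) ω = {b | R b x} := Set.eq_of_subset_of_ncard_le hsub hcard
    -- the set stabilizer of the suborbit contains both G_α and G_x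
    let S : Subgroup G :=
      { carrier := {s | ∀ b, R (s • b) x ↔ R b x}
        one_mem' := fun b => by rw [one_smul]
        mul_mem' := fun {s t} hs ht b => by rw [mul_smul, hs, ht]
        inv_mem' := fun {s} hs b => by
          have := hs (s⁻¹ • b)
          rw [smul_inv_smul] at this
          exact this.symm }
    have hHS : stabilizer G α ≤ S := by
      intro h hh b
      have e : ∀ c, R c x ↔ c ∈ orbit (stabilizer G α) ω := fun c => by rw [heq]; rfl
      rw [e, e]
      exact ⟨fun hm => by
          obtain ⟨u, hu⟩ := hm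
          exact ⟨⟨h, hh⟩⁻¹ * u, by
            show (h⁻¹ * (u : G)) • ω = b
            rw [mul_smul, show (u : G) • ω = h • b from hu, inv_smul_smul]⟩,
        fun hm => by
          obtain ⟨u, hu⟩ := hm
          exact ⟨⟨h, hh⟩ * u, by
            show (h * (u : G)) • ω = h • b
            rw [mul_smul, show (u : G) • ω = b from hu]⟩⟩
    have hxS : stabilizer G x ≤ S := by
      intro s hs b
      constructor
      · intro hb
        have := hR s⁻¹ _ _ hb
        rwa [inv_smul_smul, inv_smul_eq_iff.mpr (mem_stabilizer_iff.mp hs).symm] at this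
      · intro hb
        have := hR s _ _ hb
        rwa [mem_stabilizer_iff.mp hs] at this
    rcases hco.le_iff.mp hHS with hStop | hSH
    · have hωx : R ω x := hx
      obtain ⟨s, hs⟩ := exists_smul_eq G ω α
      have hsS : s ∈ S := by rw [hStop]; trivial
      have := (hsS ω).mpr hωx
      rw [hs] at this
      have hαmem : α ∈ orbit (stabilizer G α) ω := by rw [heq]; exact this
      obtain ⟨⟨h, hh⟩, hhω⟩ := hαmem
      apply hω
      have : h • ω = α := hhω
      rw [← eq_inv_smul_iff] at this
      rw [this, inv_smul_eq_iff, mem_stabilizer_iff.mp hh]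
    · rw [hSH] at hxS
      have hle : stabilizer G x = stabilizer G α := by
        have hcx : IsCoatom (stabilizer G x) := IsPreprimitive.isCoatom_stabilizer_of_isPreprimitive G x
        rcases hcx.le_iff.mp hxS with h | h
        · exact absurd h hco.1
        · exact h.symm
      have hxα := stabilizer_injective hprim hH hle.symm
      rw [← hxα] at hmoved
      exact hmoved ha.1
  -- hence g normalises K
  have hgK : ∀ a ∈ K, g⁻¹ * a * g ∈ K := by
    intro a ha
    refine ⟨?_, fun h hh => ?_⟩
    · rw [mem_stabilizer_iff, mul_smul, mul_smul, hg, inv_smul_eq_iff, hg]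
      simpa using ha.2 1 (one_mem _)
    · have hx : R ω (g • h • ω) :=
        ⟨g * h, by rw [mul_smul, mem_stabilizer_iff.mp hh, hg], mul_smul _ _ _⟩
      rw [mul_smul, mul_smul, key _ hx a ha, inv_smul_smul]
  have hgn : g ∈ Subgroup.normalizer (K : Set G) := by
    have hmap : K.map (MulAut.conj g⁻¹).toMonoidHom ≤ K := by
      rintro _ ⟨a, ha, rfl⟩
      simpa using hgK a ha
    have hmeq : K.map (MulAut.conj g⁻¹).toMonoidHom = K :=
      Subgroup.eq_of_le_of_card_ge hmap (Subgroup.card_map_of_injective (MulAut.conj g⁻¹).injective).ge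
    rw [← inv_mem_iff, Subgroup.mem_normalizer_iff]
    intro a
    constructor
    · intro ha
      simpa using hgK a ha
    · intro ha
      rw [← hmeq] at ha
      obtain ⟨b, hb, hbe⟩ := ha
      have : b = a := by simpa using hbe
      exact this ▸ hb
  rcases hco.le_iff.mp hHn with htop | heqH
  · haveI : K.Normal := Subgroup.normalizer_eq_top_iff.mp htop
    exact normal_le_stabilizer_eq_bot K α hKH
  · rw [heqH, mem_stabilizer_iff, hg] at hgn
    exact absurd hgn hω

end Cfsg.Agent.ExtPrim
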